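import Cfsg.Agent.Lib.Spor.SuzSection.Space
import Cfsg.Agent.Lib.Spor.LargeExtraQuotient
import Cfsg.Agent.Lib.Coprime.Action

/-!
# An element of order three fixing a space of minus type in a group of Conway type
-/

set_option autoImplicit false
set_option synthInstance.maxSize 4096
set_option linter.unusedSectionVars false

namespace CfsgLib.Spor.SuzSection

open Subgroup
open CfsgLib.Spor.CoOneType (Setup mem_cz conj_eq_iff_comm)

noncomputable section

variable {G : Type*} [Group G] [Finite G]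

/-- The fixed part of the extraspecial group. -/
abbrev fixR (Q : Subgroup G) (b : G) : Subgroup G := Q ⊓ centralizer ({b} : Set G)

/-- The data at the element of order three. -/
structure Frame (z : G) (Q : Subgroup G) (v : G → V8) (ρ : G → I8) (b : G) : Prop where
  setup : Setup z Q v ρ
  bC : b ∈ centralizer ({z} : Set G)
  b3 : orderOf b = 3
  rb : ρ b = bet

theorem pow_four_eq {b a c : G} (hb3 : orderOf b = 3) {i : ℕ} (ha : a ^ 4 = 1) (hc : c ^ 4 = 1)
    (hcb : c * b = b * c) (e : a = c * b ^ i) : a = c := by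
  have hcomm : Commute c (b ^ i) := (show Commute c b from hcb).pow_right i
  have h4 : b ^ (i * 4) = 1 := by
    rw [pow_mul]
    have := congrArg (· ^ 4) e
    simp only [ha, hcomm.mul_pow, hc, one_mul] at this
    exact this.symm
  have hd := orderOf_dvd_of_pow_eq_one h4
  rw [hb3] at hd
  obtain ⟨k, hk⟩ := (Nat.Coprime.dvd_of_dvd_mul_right (by norm_num) hd : 3 ∣ i)
  rw [e, hk, pow_mul, ← hb3, pow_orderOf_eq_one, one_pow, mul_one]

/-- An element with the required action exists. -/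
theorem exists_frame {z : G} {Q : Subgroup G} {v : G → V8} {ρ : G → I8} (S : Setup z Q v ρ) :
    ∃ b, Frame z Q v ρ b := by
  obtain ⟨c, hc, e⟩ := S.ρ_surj bet bet_mem
  have h4 : (c ^ 3) ^ 4 = 1 := by
    have hQ : c ^ 3 ∈ Q := (S.ρ_ker _ (pow_mem hc 3)).1 (by rw [S.ρ_pow hc, e, bet_three])
    rw [show (4 : ℕ) = 2 * 2 from rfl, pow_mul, pow_two (c ^ 3), pow_two]
    rcases S.core.sq_eq _ hQ with h | h <;> rw [h]
    · rw [one_mul]
    · exact S.zz
  have hr : ρ (c ^ 4) = bet := by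
    rw [S.ρ_pow hc, e]
    calc bet ^ 4 = bet ^ 3 * bet := pow_succ bet 3
      _ = bet := by rw [bet_three, one_mul]
  refine ⟨c ^ 4, S, pow_mem hc 4, ?_, hr⟩
  haveI : Fact (Nat.Prime 3) := ⟨Nat.prime_three⟩
  refine orderOf_eq_prime ?_ fun h => bet_ne ?_
  · rw [← pow_mul, show 4 * 3 = 3 * 4 from rfl, pow_mul, h4]
  · rw [← hr, h, S.ρ_one]

theorem sing6 : ∃ y : V6, q6 y = 0 ∧ y ≠ 0 := by decide +kernel

namespace Frame

variable {z : G} {Q : Subgroup G} {v : G → V8} {ρ : G → I8} {b : G} (F : Frame z Q v ρ b)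
include F

theorem pow4 {a : G} (ha : a ∈ Q) : a ^ 4 = 1 := by
  rw [show (4 : ℕ) = 2 * 2 from rfl, pow_mul, pow_two a, pow_two]
  rcases F.setup.core.sq_eq a ha with e | e <;> rw [e]
  · rw [one_mul]
  · exact F.setup.zz

theorem fixed_iff {a : G} (ha : a ∈ Q) : b * a = a * b ↔ mu (v a) = 0 := by
  rw [← bet_fix, ← F.rb, ← F.setup.ρ_act b F.bC a ha]
  constructor
  · intro h; rw [conj_eq_iff_comm.2 h]
  · intro h
    rcases (F.setup.v_eq (F.setup.norm F.bC ha) ha).1 h with e | e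
    · exact conj_eq_iff_comm.1 e
    · exfalso
      have hbz : b * z = z * b := mem_cz.1 F.bC
      have h1 : b * a = a * z * b := mul_inv_eq_iff_eq_mul.1 e
      have h2 : b ^ 2 * a = a * b ^ 2 := by
        calc b ^ 2 * a = b * (b * a) := by rw [pow_two, mul_assoc]
          _ = b * (a * z * b) := by rw [h1]
          _ = (b * a) * z * b := by group
          _ = a * z * (b * z) * b := by rw [h1]; group
          _ = a * z * (z * b) * b := by rw [hbz]
          _ = a * (z * z) * b ^ 2 := by rw [pow_two]; group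
          _ = _ := by rw [F.setup.zz, mul_one]
      have hb : b = b ^ 2 * b ^ 2 := by
        rw [← pow_add, show 2 + 2 = 3 + 1 from rfl, pow_succ, ← F.b3, pow_orderOf_eq_one, one_mul]
      have h4 : b * a = a * b := by
        rw [hb]; exact ((show Commute (b ^ 2) a from h2).mul_left h2).eq
      rw [h4, mul_assoc] at h1
      exact F.setup.z_ne (right_eq_mul.1 (mul_left_cancel h1))

theorem mem_fix {a : G} (ha : a ∈ Q) : a ∈ fixR Q b ↔ mu (v a) = 0 := by
  rw [← F.fixed_iff ha]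
  exact ⟨fun h => (mem_centralizer_singleton_iff.1 h.2).symm,
    fun h => ⟨ha, mem_centralizer_singleton_iff.2 h.symm⟩⟩

theorem z_fix : z ∈ fixR Q b :=
  ⟨F.setup.core.mem, mem_centralizer_singleton_iff.2 (mem_cz.1 F.bC).symm⟩

theorem fix_v {a : G} (ha : a ∈ fixR Q b) : v a = emb (kap (v a)) := eq_emb ((F.mem_fix ha.1).1 ha)

theorem fix_surj (x : V6) : ∃ a ∈ fixR Q b, v a = emb x := by
  obtain ⟨a, ha, e⟩ := F.setup.v_surj (emb x)
  exact ⟨a, (F.mem_fix ha).2 (by rw [e, mu_emb]), e⟩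

theorem fix_center {a : G} (ha : a ∈ fixR Q b) (h : ∀ c ∈ fixR Q b, a * c = c * a) : a = 1 ∨ a = z := by
  refine (F.setup.v_ker a ha.1).1 ?_
  rw [F.fix_v ha]
  by_contra hne
  obtain ⟨y, hy⟩ : ∃ y, QuadraticMap.polar q6 (kap (v a)) y ≠ 0 :=
    (SuzType.qf_nd.nondegenerate _ fun e => hne (by rw [e, map_zero])).2
  obtain ⟨c, hc, hvc⟩ := F.fix_surj y
  refine hy ?_
  rw [← p8_kap, ← hvc]
  exact (F.setup.v_comm a ha.1 c hc.1).2 (h c hc)

theorem card_fix [Finite G] : Nat.card (fixR Q b) = 128 := by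
  let f : ↥(fixR Q b) →* Multiplicative V6 :=
    MonoidHom.mk' (fun q => Multiplicative.ofAdd (kap (v q))) fun p q => by
      show _ = Multiplicative.ofAdd _
      rw [Subgroup.coe_mul, F.setup.v_mul _ p.2.1 _ q.2.1, map_add]
      rfl
  have hsurj : Function.Surjective f := fun y => by
    obtain ⟨q, hq, e⟩ := F.fix_surj (Multiplicative.toAdd y)
    refine ⟨⟨q, hq⟩, ?_⟩
    show Multiplicative.ofAdd (kap (v q)) = y
    rw [e, kap_emb]; rfl
  have hker : Nat.card f.ker = 2 := by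
    have hz : (⟨z, F.z_fix⟩ : ↥(fixR Q b)) ∈ f.ker := by
      show Multiplicative.ofAdd (kap (v z)) = 1
      rw [F.setup.v_z, map_zero]; rfl
    refine (Nat.card_eq_two_iff' (1 : f.ker)).2 ⟨⟨_, hz⟩,
      fun e => F.setup.z_ne (congrArg (fun q : f.ker => ((q : ↥(fixR Q b)) : G)) e), fun q hq => ?_⟩
    have h0 : kap (v (q.1 : G)) = 0 := Multiplicative.ofAdd.injective q.2
    have h1 : v (q.1 : G) = 0 := by rw [F.fix_v q.1.2, h0, map_zero]
    rcases (F.setup.v_ker _ q.1.2.1).1 h1 with h | h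
    · exact absurd (Subtype.ext (Subtype.ext h)) hq
    · exact Subtype.ext (Subtype.ext h)
  rw [← f.ker.card_mul_index, hker, Subgroup.index_ker, MonoidHom.range_eq_top.2 hsurj, Subgroup.card_top,
    Nat.card_congr Multiplicative.toAdd, Nat.card_eq_fintype_card, Fintype.card_fun]
  rfl

/-- The centralizer of the element inside the centralizer of the involution. -/
abbrev H (_F : Frame z Q v ρ b) : Subgroup G := centralizer ({z} : Set G) ⊓ centralizer ({b} : Set G)

theorem ρ_comm {c : G} (hc : c ∈ F.H) : ρ c * bet = bet * ρ c := by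
  rw [← F.rb, ← F.setup.ρ_mul c hc.1 b F.bC, mem_centralizer_singleton_iff.1 hc.2, F.setup.ρ_mul b F.bC c hc.1]

theorem pow_fix (n : ℕ) (x : V6) : CoOneType.act (bet ^ n) (emb x) = emb x := by
  induction n with
  | zero => rw [pow_zero, CoOneType.act_one]
  | succ n ih => rw [pow_succ, CoOneType.act_mul, (bet_fix _).2 (mu_emb x), ih]

theorem exists_res (c : F.H) : ∃ k : SuzType.Om, ∃ i : ℕ, ρ (c : G) = lift6 k * bet ^ i := by
  obtain ⟨k, i, e⟩ := exists_split (F.ρ_comm c.2)
  refine ⟨⟨k, ?_⟩, i, e⟩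
  rw [← comap_lift, Subgroup.mem_comap]
  have := mul_mem (F.setup.ρ_mem _ c.2.1) (inv_mem (pow_mem bet_mem i))
  rwa [e, mul_inv_cancel_right] at this

/-- The action on the six-space, as a function. -/
def resFun (c : F.H) : SuzType.Om := Classical.choose (F.exists_res c)

theorem resFun_spec (c : F.H) (x : V6) :
    CoOneType.act (ρ (c : G)) (emb x) = emb (SuzType.act (F.resFun c : I6) x) := by
  obtain ⟨i, e⟩ := Classical.choose_spec (F.exists_res c)
  rw [e, CoOneType.act_mul, F.pow_fix, act_lift_emb]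
  rfl

theorem resFun_mul (c d : F.H) : F.resFun (c * d) = F.resFun c * F.resFun d := by
  refine Subtype.ext (SuzType.iso_ext fun y => emb_injective ?_)
  refine (F.resFun_spec (c * d) y).symm.trans ?_
  show CoOneType.act (ρ ((c : G) * (d : G))) _ = emb (SuzType.act ((F.resFun c : I6) * (F.resFun d : I6)) y)
  rw [SuzType.act_mul, F.setup.ρ_mul _ c.2.1 _ d.2.1, CoOneType.act_mul, F.resFun_spec d y, F.resFun_spec c]

/-- The action on the six-space. -/
def res : ↥F.H →* ↥SuzType.Om := MonoidHom.mk' F.resFun F.resFun_mul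

theorem res_spec (c : F.H) (x : V6) :
    CoOneType.act (ρ (c : G)) (emb x) = emb (SuzType.act (F.res c : I6) x) := F.resFun_spec c x

theorem res_eq_one {c : F.H} (h : F.res c = 1) : ∃ r ∈ fixR Q b, ∃ i : ℕ, (c : G) = r * b ^ i := by
  obtain ⟨i, hi⟩ := Classical.choose_spec (F.exists_res c)
  rw [show Classical.choose (F.exists_res c) = 1 from h, OneMemClass.coe_one, map_one, one_mul] at hi
  have hpC : (b ^ i)⁻¹ ∈ centralizer ({z} : Set G) := inv_mem (pow_mem F.bC i)
  have hQ : (c : G) * (b ^ i)⁻¹ ∈ Q := by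
    refine (F.setup.ρ_ker _ (mul_mem c.2.1 hpC)).1 ?_
    rw [F.setup.ρ_mul _ c.2.1 _ hpC, F.setup.ρ_inv (pow_mem F.bC i), F.setup.ρ_pow F.bC, F.rb, hi, mul_inv_cancel]
  exact ⟨_, ⟨hQ, (centralizer ({b} : Set G)).mul_mem c.2.2 ((centralizer ({b} : Set G)).inv_mem
    ((centralizer ({b} : Set G)).pow_mem (mem_centralizer_singleton_iff.2 rfl) i))⟩, i,
    (inv_mul_cancel_right _ _).symm⟩

theorem res_of_fix {c : F.H} (h : ∀ x, CoOneType.act (ρ (c : G)) (emb x) = emb x) : F.res c = 1 :=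
  Subtype.ext (SuzType.iso_ext fun x => emb_injective (by
    rw [← F.res_spec, h]
    show _ = emb (SuzType.act 1 x)
    rw [SuzType.act_one]))

theorem res_apply_one {c : F.H} {r : G} {i : ℕ} (hr : r ∈ Q) (e : (c : G) = r * b ^ i) : F.res c = 1 := by
  refine F.res_of_fix fun x => ?_
  rw [e, F.setup.ρ_mul r (F.setup.le hr) _ (pow_mem F.bC i), F.setup.ρ_of_mem hr, one_mul, F.setup.ρ_pow F.bC,
    F.rb, F.pow_fix]

theorem res_surjective [Finite G] : Function.Surjective F.res := by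
  rintro ⟨k, hk⟩
  obtain ⟨g, hg, e⟩ := F.setup.ρ_surj (lift6 k) (Subgroup.mem_comap.1 (comap_lift ▸ hk))
  have hcomm : Commute (ρ b) (lift6 k) := by rw [F.rb]; exact lift_comm k
  have hA : ∀ a ∈ zpowers b, a ∈ centralizer ({z} : Set G) := fun a ha => (zpowers_le.2 F.bC) ha
  have hnorm : ∀ c ∈ centralizer ({z} : Set G), c ∈ normalizer (Q : Set G) := fun c hc =>
    mem_normalizer_iff.2 fun x => ⟨fun hx => F.setup.norm hc hx, fun hx => by
      have := F.setup.norm (inv_mem hc) hx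
      simpa [mul_assoc] using this⟩
  obtain ⟨n, hn, hkn⟩ := CfsgLib.Coprime.exists_fixed_in_coset (A := zpowers b) (N := Q)
    (fun a ha => hnorm a (hA a ha))
    (by rw [Nat.card_zpowers, F.b3, F.setup.card]; norm_num)
    (Or.inl (CfsgLib.Coprime.isSolvable_of_isMulCommutative inferInstance)) (k := g) (hnorm g hg) (by
      intro a ha
      have haC := hA a ha
      refine (F.setup.ρ_ker _ (mul_mem (mul_mem (mul_mem haC hg) (inv_mem haC)) (inv_mem hg))).1 ?_
      rw [F.setup.ρ_mul _ (mul_mem (mul_mem haC hg) (inv_mem haC)) _ (inv_mem hg),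
        F.setup.ρ_mul _ (mul_mem haC hg) _ (inv_mem haC), F.setup.ρ_mul a haC g hg, F.setup.ρ_inv haC,
        F.setup.ρ_inv hg, e]
      obtain ⟨m, rfl⟩ := (mem_powers_iff_mem_zpowers).2 ha
      show ρ (b ^ m) * lift6 k * (ρ (b ^ m))⁻¹ * (lift6 k)⁻¹ = 1
      rw [F.setup.ρ_pow F.bC, (hcomm.pow_left m).eq]
      group)
  have hgn : g * n ∈ F.H := ⟨mul_mem hg (F.setup.le hn), mem_centralizer_singleton_iff.2
    (mem_centralizer_iff.1 hkn b (mem_zpowers b)).symm⟩
  refine ⟨⟨g * n, hgn⟩, Subtype.ext (SuzType.iso_ext fun x => emb_injective ?_)⟩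
  rw [← F.res_spec, ← act_lift_emb]
  show CoOneType.act (ρ (g * n)) _ = _
  rw [F.setup.ρ_mul g hg n (F.setup.le hn), F.setup.ρ_of_mem hn, mul_one, e]

/-- An element centralizing the fixed part. -/
theorem cent_fix {c : G} (hc : c ∈ F.H) (h : ∀ a ∈ fixR Q b, c * a = a * c) :
    ∃ i : ℕ, c = b ^ i ∨ c = z * b ^ i := by
  have h1 : F.res ⟨c, hc⟩ = 1 := F.res_of_fix fun x => by
    obtain ⟨a, ha, e⟩ := F.fix_surj x
    show CoOneType.act (ρ c) _ = _
    rw [← e, ← F.setup.ρ_act c hc.1 a ha.1, conj_eq_iff_comm.2 (h a ha)]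
  obtain ⟨r, hr, i, e⟩ := F.res_eq_one h1
  replace e : c = r * b ^ i := e
  refine ⟨i, (F.fix_center hr fun a ha => ?_).imp (fun hr1 => by rw [e, hr1, one_mul]) fun hrz => by rw [e, hrz]⟩
  have hb : b ^ i * a = a * b ^ i :=
    ((show Commute a b from mem_centralizer_singleton_iff.1 ha.2).pow_right i).eq.symm
  have h2 := h a ha
  rw [e] at h2
  refine mul_right_cancel (b := b ^ i) ?_
  calc r * a * b ^ i = r * (b ^ i * a) := by rw [hb]; group
    _ = r * b ^ i * a := (mul_assoc _ _ _).symm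
    _ = _ := by rw [h2]; group

/-- An element centralizing `b` and moving the involution inside the fixed part. -/
theorem exists_moved [Finite G] {g : G} (hgQ : g * z * g⁻¹ ∈ Q) (hgne : g * z * g⁻¹ ≠ z) :
    ∃ n, n * b = b * n ∧ n * z * n⁻¹ ∈ fixR Q b ∧ n * z * n⁻¹ ≠ z := by
  haveI : Fact (Nat.Prime 2) := ⟨Nat.prime_two⟩
  obtain ⟨y, hy, hy0⟩ := sing6
  obtain ⟨a, ha, hva⟩ := F.fix_surj y
  have hv0 : v a ≠ 0 := by
    rw [hva]; exact fun e => hy0 (emb_injective (by rw [e, map_zero]))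
  have ha2 : a * a = 1 := (F.setup.v_sq a ha.1).1 (by rw [hva]; exact (q8_emb y).trans hy)
  obtain ⟨k, hk⟩ := F.setup.all_conj hgQ hgne ha.1 ha2 hv0
  have hne : k * z * k⁻¹ ≠ z := fun e => hv0 (by rw [← hk, e, F.setup.v_z])
  have hzQ'' : z ∈ Q.map (MulAut.conj k).toMonoidHom :=
    LargeQ.centre_mem_conj Q z F.setup.core.ext F.setup.core.center_iff F.setup.core.ord
      F.setup.core.cent F.setup.core.norm (by rw [F.setup.card]; norm_num) k hne (hk.symm ▸ ha.1)
  have S'' := F.setup.conj k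
  rw [hk] at S''
  set Q'' := Q.map (MulAut.conj k).toMonoidHom
  have hba : b ∈ centralizer ({a} : Set G) :=
    mem_centralizer_singleton_iff.2 (mem_centralizer_singleton_iff.1 ha.2).symm
  have hpow : ∀ c ∈ zpowers b, c ∈ centralizer ({a} : Set G) := fun c hc => (zpowers_le.2 hba) hc
  obtain ⟨r, hr, hrb, hrz⟩ : ∃ r ∈ Q'', r * b = b * r ∧ r * z ≠ z * r := by
    by_contra hcon
    push Not at hcon
    rcases S''.core.fixed_central (zpowers b) (by rw [Nat.card_zpowers, F.b3]; decide)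
      (fun c hc q hq => S''.norm (hpow c hc) hq)
      (fun c hc => mem_centralizer_singleton_iff.1 (hpow c hc)) hzQ''
      (fun c hc => mem_cz.1 ((zpowers_le.2 F.bC) hc))
      (fun r hr h => hcon r hr (h b (mem_zpowers b)).symm) with e | e
    · exact F.setup.z_ne e
    · exact hne (hk.trans e.symm)
  have hrz' : r * z * r⁻¹ = z * a := (S''.conj_or hzQ'' hr).resolve_left fun e => hrz (conj_eq_iff_comm.1 e)
  obtain ⟨s, hs, hsa⟩ : ∃ s ∈ fixR Q b, s * a ≠ a * s := by
    by_contra hcon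
    push Not at hcon
    exact (F.fix_center ha fun c hc => (hcon c hc).symm).elim
      (fun e => hv0 (by rw [e, F.setup.v_one])) (fun e => hv0 (by rw [e, F.setup.v_z]))
  have hsa' : s * a * s⁻¹ = a * z := (F.setup.conj_or ha.1 hs.1).resolve_left fun e => hsa (conj_eq_iff_comm.1 e)
  have hsz : s * z * s⁻¹ = z := conj_eq_iff_comm.2 (F.setup.cz hs.1)
  have hra : r * a * r⁻¹ = a := conj_eq_iff_comm.2 (S''.cz hr)
  have haz : a * z = z * a := F.setup.cz ha.1
  have e1 : r * s * r * z * (r * s * r)⁻¹ = a := by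
    calc r * s * r * z * (r * s * r)⁻¹ = r * (s * (r * z * r⁻¹) * s⁻¹) * r⁻¹ := by group
      _ = r * ((s * z * s⁻¹) * (s * a * s⁻¹)) * r⁻¹ := by rw [hrz']; group
      _ = r * (z * (a * z)) * r⁻¹ := by rw [hsz, hsa']
      _ = r * a * r⁻¹ := by rw [haz, ← mul_assoc z z, F.setup.zz, one_mul]
      _ = a := hra
  have hnb : r * s * r * b = b * (r * s * r) := by
    have h1 : Commute r b := hrb
    have h2 : Commute s b := mem_centralizer_singleton_iff.1 hs.2
    exact ((h1.mul_left h2).mul_left h1).eq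
  exact ⟨r * s * r, hnb, e1.symm ▸ ha, e1.symm ▸ (hk ▸ hne)⟩

end Frame

end

end CfsgLib.Spor.SuzSection
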