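import Cfsg.Agent.Lib.Spor.SuzType.Basic
import Cfsg.Agent.Lib.Spor.LargeExtraSimple

/-!
# Groups of Suzuki type are simple
-/

set_option autoImplicit false
set_option synthInstance.maxSize 4096
set_option linter.style.haveILetI false

namespace CfsgLib.Spor.SuzSection

open Subgroup Cfsg.Geo CfsgLib.Perm.Trans.Quad
open SuzType (Vec qf Om Iso6)

noncomputable section

theorem center_om : center Om = ⊥ := Subgroup.card_eq_one.1
  (CfsgLib.Orth.card_center_omega_two SuzType.qf_nd SuzType.five_le (by decide))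

/-- The orthogonal group of minus type in dimension six is its projective version. -/
def omEquiv : Om ≃* Cfsg.POmega (ZMod 2) qf :=
  MulEquiv.ofBijective (QuotientGroup.mk' (center Om))
    ⟨by rw [← MonoidHom.ker_eq_bot_iff, QuotientGroup.ker_mk', center_om], QuotientGroup.mk'_surjective _⟩

theorem om_simple : IsSimpleGroup Om := by
  haveI : IsSimpleGroup (Cfsg.POmega (ZMod 2) qf) := pomega_isSimple SuzType.qf_nd SuzType.five_le
  exact omEquiv.isSimpleGroup

/-- Every vector is a singular vector or a sum of two singular vectors. -/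
theorem two_singular : ∀ w : Vec, w = 0 ∨ qf w = 0 ∨
    ∃ u : Vec, (qf u = 0 ∧ u ≠ 0) ∧ qf (w + u) = 0 ∧ w + u ≠ 0 := by decide +kernel

variable {G : Type*} [Group G] [Finite G] {z : G} {Q : Subgroup G} {v : G → Vec} {ρ : G → Iso6}

/-- A normal subgroup containing the involution contains the extraspecial group. -/
theorem le_normal (S : SuzType.Setup z Q v ρ) {g : G} (hgQ : g * z * g⁻¹ ∈ Q) (hne : g * z * g⁻¹ ≠ z)
    {N : Subgroup G} (hN : N.Normal) (hzN : z ∈ N) : Q ≤ N := by
  have hsing : ∀ u : Vec, qf u = 0 → u ≠ 0 → ∃ a ∈ Q, v a = u ∧ a ∈ N := by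
    intro u hu hu0
    obtain ⟨a, ha, rfl⟩ := S.v_surj u
    obtain ⟨k, hk⟩ := S.all_conj hgQ hne ha ((S.v_sq a ha).1 hu) hu0
    exact ⟨a, ha, rfl, hk ▸ hN.conj_mem z hzN k⟩
  intro q hq
  obtain ⟨c, hc, hv, hcN⟩ : ∃ c ∈ Q, v q = v c ∧ c ∈ N := by
    by_cases h0 : v q = 0
    · exact ⟨1, one_mem _, by rw [h0, S.v_one], one_mem _⟩
    rcases two_singular (v q) with e | e | ⟨u, ⟨hu, hu0⟩, hw, hw0⟩
    · exact absurd e h0
    · obtain ⟨a, ha, hva, haN⟩ := hsing _ e h0
      exact ⟨a, ha, hva.symm, haN⟩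
    · obtain ⟨a, ha, hva, haN⟩ := hsing u hu hu0
      obtain ⟨b, hb, hvb, hbN⟩ := hsing _ hw hw0
      refine ⟨b * a, mul_mem hb ha, ?_, mul_mem hbN haN⟩
      rw [S.v_mul b hb a ha, hvb, hva, add_assoc, SuzType.vec_add_self, add_zero]
  rcases (S.v_eq hq hc).1 hv with rfl | rfl
  · exact hcN
  · exact mul_mem hcN hzN

/-- A normal subgroup containing the involution contains its centralizer. -/
theorem centralizer_le_normal (S : SuzType.Setup z Q v ρ) {g : G} (hgQ : g * z * g⁻¹ ∈ Q) (hne : g * z * g⁻¹ ≠ z)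
    {N : Subgroup G} (hN : N.Normal) (hzN : z ∈ N) : centralizer ({z} : Set G) ≤ N := by
  classical
  haveI : Fact (Nat.Prime 2) := ⟨Nat.prime_two⟩
  have hQN := le_normal S hgQ hne hN hzN
  have S' := S.conj g
  set z' := g * z * g⁻¹ with hz'
  set Q' := Q.map (MulAut.conj g).toMonoidHom with hQ'
  have hQ'N : Q' ≤ N := by
    rintro _ ⟨a, ha, rfl⟩
    exact hN.conj_mem a (hQN ha) g
  have hzQ' : z ∈ Q' := LargeQ.centre_mem_conj Q z S.core.ext S.core.center_iff S.core.ord S.core.cent S.core.norm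
    (by rw [S.card]; norm_num) g hne hgQ
  obtain ⟨x, hxQ', hxz, hxQ⟩ : ∃ x ∈ Q', x * z = z * x ∧ x ∉ Q := by
    by_contra hcon
    push Not at hcon
    have hzv : v (g⁻¹ * z * g) ≠ 0 := fun e => by
      rcases (S'.v_ker z hzQ').1 e with e' | e'
      · exact S.z_ne e'
      · exact hne e'.symm
    obtain ⟨c₀, hc₀, hc⟩ := S'.exists_moving hzQ' hzv
    have hcz' : z' * z = z * z' := S.cz hgQ
    have hz'Q' : z' ∈ Q' := S'.core.mem
    have hD : ∀ d ∈ Q', d * z = z * d → d = 1 ∨ d = z' ∨ d = z ∨ d = z * z' := by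
      intro d hd hdz
      have hab : ∀ a ∈ Q', a * z = z * a → ∀ b ∈ Q', b * z = z * b → a * b = b * a := by
        intro a ha haz b hb hbz
        rcases S'.core.comm_eq a ha b hb with e | e
        · exact mul_inv_eq_iff_eq_mul.1 (mul_inv_eq_one.1 e)
        · rcases S.core.comm_eq a (hcon a ha haz) b (hcon b hb hbz) with e' | e'
          · exact mul_inv_eq_iff_eq_mul.1 (mul_inv_eq_one.1 e')
          · exact absurd (e.symm.trans e') hne
      have key : ∀ a ∈ Q', a * z = z * a → c₀ * a = a * c₀ → a = 1 ∨ a = z' := by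
        intro a ha haz hac
        refine (S'.core.center_iff a).1 (S'.core.cent ▸ mem_centralizer_iff.2 fun b hb => ?_)
        rcases S'.conj_or hzQ' hb with e | e
        · exact (hab a ha haz b hb (SuzType.conj_eq_iff_comm.1 e)).symm
        · have h1 : c₀⁻¹ * b * z = z * (c₀⁻¹ * b) := by
            calc c₀⁻¹ * b * z = c₀⁻¹ * (b * z * b⁻¹) * b := by group
              _ = c₀⁻¹ * (c₀ * z * c₀⁻¹) * b := by rw [e, hc]
              _ = _ := by group
          calc b * a = c₀ * ((c₀⁻¹ * b) * a) := by group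
            _ = c₀ * (a * (c₀⁻¹ * b)) := by rw [hab a ha haz _ (mul_mem (inv_mem hc₀) hb) h1]
            _ = (c₀ * a) * (c₀⁻¹ * b) := (mul_assoc _ _ _).symm
            _ = a * b := by rw [hac]; group
      rcases S'.conj_or hd hc₀ with e | e
      · exact (key d hd hdz (SuzType.conj_eq_iff_comm.1 e)).imp id Or.inl
      · have h1 : c₀ * (d * z) = d * z * c₀ := by
          calc c₀ * (d * z) = (c₀ * d * c₀⁻¹) * (c₀ * z * c₀⁻¹) * c₀ := by group
            _ = d * z' * (z * z') * c₀ := by rw [e, hc]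
            _ = d * (z' * z * z') * c₀ := by group
            _ = d * (z * (z' * z')) * c₀ := by rw [hcz', mul_assoc z z' z']
            _ = d * z * c₀ := by rw [S'.zz, mul_one]
        have h2 : d * z * z = z * (d * z) := by rw [← mul_assoc z, ← hdz]
        rcases key (d * z) (mul_mem hd hzQ') h2 h1 with e' | e'
        · refine Or.inr (Or.inr (Or.inl ?_))
          rw [← mul_one d, ← S.zz, ← mul_assoc, e', one_mul]
        · refine Or.inr (Or.inr (Or.inr ?_))
          rw [← mul_one d, ← S.zz, ← mul_assoc, e', hcz']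
    have hsub : (Q' : Set G) ⊆ ↑({1, z', z, z * z', c₀, c₀ * z', c₀ * z, c₀ * (z * z')} : Finset G) := by
      intro q hq
      rcases S'.conj_or hzQ' hq with e | e
      · rcases hD q hq (SuzType.conj_eq_iff_comm.1 e) with h | h | h | h <;> simp [h]
      · have h1 : c₀⁻¹ * q * z = z * (c₀⁻¹ * q) := by
          calc c₀⁻¹ * q * z = c₀⁻¹ * (q * z * q⁻¹) * q := by group
            _ = c₀⁻¹ * (c₀ * z * c₀⁻¹) * q := by rw [e, hc]
            _ = _ := by group
        have hq' : q = c₀ * (c₀⁻¹ * q) := by group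
        rcases hD _ (mul_mem (inv_mem hc₀) hq) h1 with h | h | h | h <;> rw [hq', h] <;> simp
    have h8 : Nat.card Q' ≤ 8 := by
      refine le_trans (Nat.card_mono (Finset.finite_toSet _) hsub) ?_
      rw [Nat.card_coe_set_eq, Set.ncard_coe_finset]
      repeat (refine (Finset.card_insert_le _ _).trans (Nat.succ_le_succ ?_))
      exact (Finset.card_singleton _).le
    rw [S'.card] at h8
    omega
  haveI := om_simple
  let f : ↥(centralizer ({z} : Set G)) →* ↥Om :=
    (MonoidHom.mk' (fun c : ↥(centralizer ({z} : Set G)) => ρ (c : G))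
      fun a b => S.ρ_mul a a.2 b b.2).codRestrict Om fun c => S.ρ_mem c c.2
  have hf : Function.Surjective f := fun k => by
    obtain ⟨c, hc, e⟩ := S.ρ_surj k k.2
    exact ⟨⟨c, hc⟩, Subtype.ext e⟩
  haveI := hN
  rcases (inferInstance : (N.subgroupOf (centralizer ({z} : Set G))).Normal).map f hf |>.eq_bot_or_eq_top with h | h
  · exfalso
    have hxm : f ⟨x, SuzType.mem_cz.2 hxz⟩ ∈ (N.subgroupOf (centralizer ({z} : Set G))).map f :=
      mem_map_of_mem f (mem_subgroupOf.2 (hQ'N hxQ'))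
    rw [h, mem_bot] at hxm
    exact hxQ ((S.ρ_ker x (SuzType.mem_cz.2 hxz)).1 (congrArg Subtype.val hxm))
  · intro c hc
    obtain ⟨d, hd, e⟩ : f ⟨c, hc⟩ ∈ (N.subgroupOf (centralizer ({z} : Set G))).map f := h ▸ mem_top _
    have hq : ρ ((d : G)⁻¹ * c) = 1 := by
      rw [S.ρ_mul _ (inv_mem d.2) c hc, S.ρ_inv d.2, show ρ (d : G) = ρ c from congrArg Subtype.val e, inv_mul_cancel]
    have := mul_mem (mem_subgroupOf.1 hd) (hQN ((S.ρ_ker _ (mul_mem (inv_mem d.2) hc)).1 hq))
    rwa [mul_inv_cancel_left] at this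

/-- A group of Suzuki type is simple and non-abelian. -/
theorem isSimple_of_setup (S : SuzType.Setup z Q v ρ) {g : G} (hgQ : g * z * g⁻¹ ∈ Q) (hne : g * z * g⁻¹ ≠ z) :
    IsSimpleGroup G ∧ ¬ IsMulCommutative G :=
  ⟨S.core.isSimple (S.core.large_of_conj (by rw [S.card]; norm_num) g hne hgQ)
    fun _ hN hzN => centralizer_le_normal S hgQ hne hN hzN,
    fun h => hne (mul_inv_eq_iff_eq_mul.2 (h.is_comm.comm g z))⟩

end

end CfsgLib.Spor.SuzSection
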