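import Cfsg.Agent.Lib.Spor.SuzSection.Frame
import Cfsg.Agent.Lib.Spor.SuzSection.Simple
import Cfsg.Agent.Lib.Spor.CoOneType.Section
import Cfsg.Agent.Lib.Spor.Leech.CrossStab
import Cfsg.Prelude.Def_Spor_Conway

/-!
# A simple section of Suzuki type in the automorphism group of the Leech lattice
-/

set_option autoImplicit false
set_option synthInstance.maxSize 4096
set_option linter.unusedSectionVars false
set_option linter.style.haveILetI false

namespace CfsgLib.Spor.SuzSection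

open Subgroup
open CfsgLib.Spor.CoOneType (Setup mem_cz conj_eq_iff_comm qm Bc bM X)

noncomputable section

variable {G : Type} [Group G] [Finite G]

/-- The hypothesis of Suzuki type. -/
def SuzHyp (S : Type) [Group S] : Prop :=
  ∃ z : S, orderOf z = 2 ∧ ∃ (Q : Subgroup (centralizer ({z} : Set S))) (_ : Q.Normal),
    Cfsg.generalizedFittingSubgroup (centralizer ({z} : Set S)) = Q ∧ Cfsg.IsExtraspecial 2 Q ∧
    Nat.card Q = 2 ^ 7 ∧ Nonempty ((centralizer ({z} : Set S)) ⧸ Q ≃*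
      Cfsg.Omega (ZMod 2) (Cfsg.quadFormMinus 2 (ZMod 2) 1 1)) ∧
    ∃ g : S, (∃ hq : g * z * g⁻¹ ∈ centralizer ({z} : Set S),
      (⟨g * z * g⁻¹, hq⟩ : centralizer ({z} : Set S)) ∈ Q) ∧ g * z * g⁻¹ ≠ z

theorem mk_eq_one {b : G} (hb3 : orderOf b = 3) {m : ↥(centralizer ({b} : Set G))} :
    qm b m = 1 ↔ ∃ i : ℕ, (m : G) = b ^ i := by
  rw [qm, QuotientGroup.mk'_apply, QuotientGroup.eq_one_iff]
  constructor
  · intro h
    obtain ⟨k, hk⟩ := mem_zpowers_iff.1 h
    refine ⟨(k % 3).toNat, ?_⟩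
    rw [← hk]
    show ((bM b : ↥(centralizer ({b} : Set G))) ^ k : ↥(centralizer ({b} : Set G))).1 = _
    rw [SubgroupClass.coe_zpow, ← zpow_natCast, Int.toNat_of_nonneg (Int.emod_nonneg _ (by norm_num)),
      show ((3 : ℤ)) = ((orderOf b : ℕ) : ℤ) by rw [hb3]; rfl, zpow_mod_orderOf]
    rfl
  · rintro ⟨i, hi⟩
    rw [show m = bM b ^ i from Subtype.ext (by rw [hi, SubgroupClass.coe_pow]; rfl)]
    exact pow_mem (mem_zpowers _) i

variable {z : G} {Q : Subgroup G} {v : G → V8} {ρ : G → I8} {b : G}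

namespace Frame

variable (F : Frame z Q v ρ b)
include F

theorem z_memM : z ∈ centralizer ({b} : Set G) := F.z_fix.2

theorem mk_inj {a c : ↥(centralizer ({b} : Set G))} (ha : (a : G) ∈ Q) (hc : (c : G) ∈ Q)
    (e : qm b a = qm b c) : a = c := by
  obtain ⟨i, hi⟩ := (mk_eq_one F.b3).1 (show qm b (c⁻¹ * a) = 1 by rw [map_mul, map_inv, e, inv_mul_cancel])
  refine Subtype.ext (pow_four_eq F.b3 (F.pow4 ha) (F.pow4 hc) (mem_centralizer_singleton_iff.1 c.2) (i := i) ?_)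
  rw [← hi]; simp

/-- The image of the involution. -/
def zX (F : Frame z Q v ρ b) : X b := qm b ⟨z, F.z_memM⟩

theorem zX_order : orderOf F.zX = 2 := by
  haveI : Fact (Nat.Prime 2) := ⟨Nat.prime_two⟩
  refine orderOf_eq_prime ?_ fun h => F.setup.z_ne
    (congrArg Subtype.val (F.mk_inj (a := ⟨z, F.z_memM⟩) (c := 1) F.setup.core.mem (one_mem _) (h.trans (map_one _).symm)))
  rw [zX, ← map_pow, pow_two]
  exact (congrArg (qm b) (Subtype.ext F.setup.zz)).trans (map_one _)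

theorem mem_cent_zX {m : ↥(centralizer ({b} : Set G))} :
    qm b m ∈ centralizer ({F.zX} : Set (X b)) ↔ (m : G) ∈ centralizer ({z} : Set G) := by
  rw [mem_centralizer_singleton_iff, mem_cz, zX, ← map_mul, ← map_mul]
  constructor
  · intro h
    set zm : ↥(centralizer ({b} : Set G)) := ⟨z, F.z_memM⟩ with hzm
    obtain ⟨i, hi⟩ := (mk_eq_one F.b3).1
      (show qm b (zm⁻¹ * (m * zm * m⁻¹)) = 1 by
        rw [map_mul, map_mul _ (m * zm), h, ← map_mul, map_inv, ← map_inv, ← map_mul]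
        exact (congrArg (qm b) (by group)).trans (map_one _))
    have e : (m : G) * z * (m : G)⁻¹ = z * b ^ i := by
      rw [← hi]
      show (m : G) * z * (m : G)⁻¹ = z * (z⁻¹ * ((m : G) * z * (m : G)⁻¹))
      group
    have h4 : z ^ 4 = 1 := F.pow4 F.setup.core.mem
    have := pow_four_eq F.b3 (a := (m : G) * z * (m : G)⁻¹) (c := z) (i := i)
      (by rw [conj_pow, h4, mul_one, mul_inv_cancel]) h4 (mem_centralizer_singleton_iff.1 F.z_memM) e
    exact conj_eq_iff_comm.1 this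
  · intro h
    exact congrArg (qm b) (Subtype.ext h)

theorem exists_lift {x : X b} (hx : x ∈ centralizer ({F.zX} : Set (X b))) :
    ∃ m : ↥(centralizer ({b} : Set G)), qm b m = x ∧ (m : G) ∈ F.H := by
  obtain ⟨m, rfl⟩ := QuotientGroup.mk'_surjective (Bc b) x
  exact ⟨m, rfl, F.mem_cent_zX.1 hx, m.2⟩

/-- The map from the centralizer in the whole group. -/
def down (F : Frame z Q v ρ b) : ↥F.H →* ↥(centralizer ({F.zX} : Set (X b))) :=
  ((qm b).comp (Subgroup.inclusion (show F.H ≤ centralizer ({b} : Set G) from inf_le_right))).codRestrict _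
    fun c => F.mem_cent_zX.2 c.2.1

theorem down_surjective : Function.Surjective F.down := fun x => by
  obtain ⟨m, hm, hmH⟩ := F.exists_lift x.2
  exact ⟨⟨m, hmH⟩, Subtype.ext hm⟩

theorem down_ker : F.down.ker ≤ F.res.ker := fun c hc => by
  obtain ⟨i, hi⟩ := (mk_eq_one F.b3).1 (congrArg Subtype.val hc)
  exact F.res_apply_one (r := 1) (one_mem _) (show (c : G) = 1 * b ^ i by rw [one_mul]; exact hi)

/-- The action of the centralizer in the quotient. -/
def act6 (F : Frame z Q v ρ b) : ↥(centralizer ({F.zX} : Set (X b))) →* ↥SuzType.Om :=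
  F.down.liftOfSurjective F.down_surjective ⟨F.res, F.down_ker⟩

theorem act6_down (c : F.H) : F.act6 (F.down c) = F.res c :=
  MonoidHom.liftOfRightInverse_comp_apply _ _ _ ⟨F.res, F.down_ker⟩ c

theorem act6_surjective : Function.Surjective F.act6 := fun k => by
  obtain ⟨c, hc⟩ := F.res_surjective k
  exact ⟨F.down c, (F.act6_down c).trans hc⟩

/-- The map from the fixed part. -/
def fixDown (F : Frame z Q v ρ b) : ↥(fixR Q b) →* ↥(centralizer ({F.zX} : Set (X b))) :=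
  F.down.comp (Subgroup.inclusion (show fixR Q b ≤ F.H from fun _ ha => ⟨F.setup.le ha.1, ha.2⟩))

theorem fixDown_injective : Function.Injective F.fixDown := fun a c e =>
  Subtype.ext (congrArg (fun m : ↥(centralizer ({b} : Set G)) => (m : G)) (F.mk_inj (a := ⟨a, a.2.2⟩) (c := ⟨c, c.2.2⟩) a.2.1 c.2.1 (congrArg Subtype.val e)))

theorem fixDown_range : F.fixDown.range = F.act6.ker := by
  ext x
  obtain ⟨c, rfl⟩ := F.down_surjective x
  rw [MonoidHom.mem_ker, act6_down]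
  constructor
  · rintro ⟨a, ha⟩
    obtain ⟨i, hi⟩ := (mk_eq_one F.b3).1 (show qm b
        ((⟨a, a.2.2⟩ : ↥(centralizer ({b} : Set G)))⁻¹ * ⟨c, c.2.2⟩) = 1 by
      rw [map_mul, map_inv, inv_mul_eq_one]; exact congrArg Subtype.val ha)
    replace hi : (a : G)⁻¹ * (c : G) = b ^ i := hi
    exact F.res_apply_one (r := (a : G)) a.2.1 (by rw [← hi, mul_inv_cancel_left])
  · intro h
    obtain ⟨r, hr, i, hi⟩ := F.res_eq_one h
    refine ⟨⟨r, hr⟩, Subtype.ext ?_⟩
    show qm b _ = qm b _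
    rw [← inv_mul_eq_one, ← map_inv, ← map_mul, mk_eq_one F.b3]
    exact ⟨i, by show r⁻¹ * (c : G) = _; rw [hi, inv_mul_cancel_left]⟩

theorem fix_self {c : F.H} (h : ∀ a ∈ fixR Q b, (c : G) * a = a * c) : ∃ a, F.fixDown a = F.down c := by
  obtain ⟨i, e | e⟩ := F.cent_fix c.2 h
  · refine ⟨1, ?_⟩
    rw [map_one]
    exact (Subtype.ext ((mk_eq_one F.b3).2 ⟨i, e⟩)).symm
  · refine ⟨⟨z, F.z_fix⟩, Subtype.ext ?_⟩
    show qm b _ = qm b _
    rw [← inv_mul_eq_one, ← map_inv, ← map_mul, mk_eq_one F.b3]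
    exact ⟨i, by show z⁻¹ * (c : G) = _; rw [e, inv_mul_cancel_left]⟩

theorem fix_extraspecial : Cfsg.IsExtraspecial 2 ↥(fixR Q b) := by
  haveI : Fact (Nat.Prime 2) := ⟨Nat.prime_two⟩
  refine CfsgLib.Spor.Affine.isExtraspecial_congr (Subgroup.topEquiv (G := ↥(fixR Q b))) ?_
  have hp : IsPGroup 2 ↥(fixR Q b) := IsPGroup.of_card (n := 7) (by rw [F.card_fix]; rfl)
  set w : ↥(fixR Q b) := ⟨z, F.z_fix⟩ with hw
  have hwp : ∀ a : ↥(fixR Q b), ((a : G) = 1 ∨ (a : G) = z) → a ∈ zpowers w := by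
    intro a ha
    rcases ha with e | e
    · rw [show a = 1 from Subtype.ext e]; exact one_mem _
    · rw [show a = w from Subtype.ext e]; exact mem_zpowers _
  refine CfsgLib.SympPairs.isExtraspecial_of_data (z := w) (⊤ : Subgroup ↥(fixR Q b))
    (hp.of_equiv Subgroup.topEquiv.symm)
    ⟨Subtype.ext (by rw [SubgroupClass.coe_pow, pow_two]; exact F.setup.zz),
      fun e => F.setup.z_ne (congrArg Subtype.val e), mem_top _, fun q => Subtype.ext (F.setup.cz q.2.1), ?_⟩ ?_ ?_ ?_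
  · intro a _ c _
    exact hwp _ (F.setup.core.comm_eq a a.2.1 c c.2.1)
  · intro a _
    refine hwp _ ?_
    rw [SubgroupClass.coe_pow, pow_two]
    exact F.setup.core.sq_eq a a.2.1
  · intro a _ hac
    exact hwp _ (F.fix_center a.2 fun c hc =>
      (congrArg Subtype.val (mem_centralizer_iff.1 hac ⟨c, hc⟩ (mem_top _))).symm)
  · obtain ⟨y, y', hy⟩ : ∃ y y' : V6, QuadraticMap.polar q6 y y' ≠ 0 := by
      obtain ⟨y, -, hy0⟩ := sing6
      obtain ⟨y', h'⟩ := (SuzType.qf_nd.nondegenerate y hy0).2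
      exact ⟨y, y', h'⟩
    obtain ⟨a, ha, hva⟩ := F.fix_surj y
    obtain ⟨c, hc, hvc⟩ := F.fix_surj y'
    refine ⟨⟨a, ha⟩, mem_top _, ⟨c, hc⟩, mem_top _, fun e => hy ?_⟩
    rw [← p8_emb, ← hva, ← hvc]
    exact (F.setup.v_comm a ha.1 c hc.1).2 (congrArg Subtype.val (commutatorElement_eq_one_iff_mul_comm.1 e))

/-- The quotient satisfies the hypothesis of Suzuki type. -/
theorem suzHyp {g : G} (hgQ : g * z * g⁻¹ ∈ Q) (hgne : g * z * g⁻¹ ≠ z) : SuzHyp (X b) := by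
  haveI : Fact (Nat.Prime 2) := ⟨Nat.prime_two⟩
  set C := centralizer ({F.zX} : Set (X b))
  set Q' := F.act6.ker with hQ'
  let eR : ↥(fixR Q b) ≃* ↥Q' :=
    (MonoidHom.ofInjective F.fixDown_injective).trans (MulEquiv.subgroupCongr F.fixDown_range)
  have hext : Cfsg.IsExtraspecial 2 ↥Q' := CfsgLib.Spor.Affine.isExtraspecial_congr eR F.fix_extraspecial
  have hcard : Nat.card Q' = 2 ^ 7 := by rw [← Nat.card_congr eR.toEquiv, F.card_fix]; norm_num
  have hcore : Cfsg.pCore 2 ↥C ≤ Q' := by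
    haveI hn := CfsgLib.Coprime.pCore_normal' (G := ↥C) 2
    haveI : ((Cfsg.pCore 2 ↥C).map F.act6).Normal := hn.map F.act6 F.act6_surjective
    haveI := om_simple
    rcases (inferInstance : ((Cfsg.pCore 2 ↥C).map F.act6).Normal).eq_bot_or_eq_top with e | e
    · rwa [Subgroup.map_eq_bot_iff] at e
    · exfalso
      have hp := (CfsgLib.Coprime.pCore_isPGroup (G := ↥C) 2).map F.act6
      rw [e] at hp
      obtain ⟨m, hm⟩ := hp.exists_card_eq
      rw [Subgroup.card_top, SuzType.card_om] at hm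
      have h3 : 3 ∣ 2 ^ m := hm ▸ (by norm_num)
      exact absurd (Nat.prime_three.dvd_of_dvd_pow h3) (by norm_num)
  have heq : Cfsg.pCore 2 ↥C = Q' := le_antisymm hcore (CfsgLib.Coprime.le_pCore hext.1.1)
  refine ⟨F.zX, F.zX_order, Q', inferInstance, ?_, hext, hcard,
    ⟨QuotientGroup.quotientKerEquivOfSurjective F.act6 F.act6_surjective⟩, ?_⟩
  · rw [← heq]
    refine CfsgLib.CharPLoc.fStar_eq_pCore_iff.2 (CfsgLib.Invol.pClean_of_centralizer_le fun x hx => ?_)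
    rw [heq] at hx ⊢
    obtain ⟨c, rfl⟩ := F.down_surjective x
    have hc : ∀ a ∈ fixR Q b, (c : G) * a = a * c := by
      intro a ha
      have h1 := congrArg Subtype.val (mem_centralizer_iff.1 hx (F.fixDown ⟨a, ha⟩)
        (F.fixDown_range ▸ ⟨_, rfl⟩ : F.fixDown ⟨a, ha⟩ ∈ F.act6.ker))
      replace h1 : qm b ⟨a, ha.2⟩ * qm b ⟨c, c.2.2⟩ = qm b ⟨c, c.2.2⟩ * qm b ⟨a, ha.2⟩ := h1
      rw [eq_comm, ← mul_inv_eq_iff_eq_mul, ← map_inv, ← map_mul, ← map_mul] at h1
      exact conj_eq_iff_comm.1 (congrArg Subtype.val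
        (F.mk_inj (c := ⟨a, ha.2⟩) (F.setup.norm c.2.1 ha.1) ha.1 h1))
    obtain ⟨a, ha⟩ := F.fix_self hc
    show F.down c ∈ F.act6.ker
    rw [← F.fixDown_range]
    exact ⟨a, ha⟩
  · obtain ⟨n, hnb, hnR, hne⟩ := F.exists_moved hgQ hgne
    set a : ↥(fixR Q b) := ⟨n * z * n⁻¹, hnR⟩
    have hconj : qm b ⟨n, mem_centralizer_singleton_iff.2 hnb⟩ * F.zX *
        (qm b ⟨n, mem_centralizer_singleton_iff.2 hnb⟩)⁻¹ = (F.fixDown a : X b) := by
      show qm b _ * qm b _ * (qm b _)⁻¹ = qm b _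
      rw [← map_inv, ← map_mul, ← map_mul]
      rfl
    refine ⟨qm b ⟨n, mem_centralizer_singleton_iff.2 hnb⟩, ⟨hconj ▸ (F.fixDown a).2, ?_⟩, fun e => hne ?_⟩
    · rw [hQ', ← F.fixDown_range]
      exact ⟨a, Subtype.ext hconj.symm⟩
    · exact congrArg Subtype.val (F.mk_inj (a := ⟨n * z * n⁻¹, hnR.2⟩) (c := ⟨z, F.z_memM⟩)
        hnR.1 F.setup.core.mem (hconj.symm.trans e))

end Frame

/-- The hypothesis of Suzuki type gives simplicity. -/
theorem SuzHyp.simple {S : Type} [Group S] [Finite S] (h : SuzHyp S) : IsSimpleGroup S ∧ ¬ IsMulCommutative S := by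
  obtain ⟨z, hz, Q, hN, hF, hQ, hcard, ⟨e⟩, g, ⟨hq, hgQ⟩, hgne⟩ := h
  obtain ⟨v, ρ, T⟩ := SuzType.exists_setup z hz Q hF hQ hcard e
  exact isSimple_of_setup T (g := g) ⟨_, hgQ, rfl⟩ hgne

/-- The section. -/
theorem suz_section {G₀ : Type} [Group G₀] [Finite G₀] (hZc : Nat.card (center G₀) = 2)
    {z : G₀ ⧸ center G₀} {Q : Subgroup (G₀ ⧸ center G₀)} {v : (G₀ ⧸ center G₀) → V8}
    {ρ : (G₀ ⧸ center G₀) → I8} (S : Setup z Q v ρ)
    {g : G₀ ⧸ center G₀} (hgQ : g * z * g⁻¹ ∈ Q) (hgne : g * z * g⁻¹ ≠ z) :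
    ∃ A : Subgroup G₀, Nat.card A = 3 ∧
      ∃ (_hn : ((A ⊔ center G₀).subgroupOf (centralizer (A : Set G₀))).Normal),
      ∃ (S : Type) (_ : Group S) (_ : Finite S),
        Nonempty (S ≃* ↥(centralizer (A : Set G₀)) ⧸ (A ⊔ center G₀).subgroupOf (centralizer (A : Set G₀))) ∧
        IsSimpleGroup S ∧ ¬ IsMulCommutative S ∧ SuzHyp S := by
  obtain ⟨b, F⟩ := exists_frame S
  obtain ⟨x, hx⟩ := QuotientGroup.mk'_surjective (center G₀) b
  let π : G₀ →* G₀ ⧸ center G₀ := QuotientGroup.mk' (center G₀)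
  have hker : ∀ y, π y = 1 ↔ y ∈ center G₀ := fun y => by rw [← MonoidHom.mem_ker, QuotientGroup.ker_mk']
  have hc2 : ∀ y ∈ center G₀, y ^ 2 = 1 := fun y hy => by
    have := pow_card_eq_one' (x := (⟨y, hy⟩ : center G₀))
    rw [hZc] at this
    exact congrArg Subtype.val this
  have hx6 : x ^ 6 = 1 := by
    rw [show (6 : ℕ) = 3 * 2 from rfl, pow_mul]
    refine hc2 _ ((hker _).1 ?_)
    rw [map_pow, show π x = b from hx, ← F.b3, pow_orderOf_eq_one]
  set a := x ^ 4 with ha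
  have hπa : π a = b := by
    rw [ha, map_pow, show π x = b from hx, show (4 : ℕ) = 3 + 1 from rfl, pow_succ, ← F.b3, pow_orderOf_eq_one,
      one_mul]
  have ha3 : a ^ 3 = 1 := by rw [ha, ← pow_mul, show 4 * 3 = 6 * 2 from rfl, pow_mul, hx6, one_pow]
  have hao : orderOf a = 3 := by
    haveI : Fact (Nat.Prime 3) := ⟨Nat.prime_three⟩
    refine orderOf_eq_prime ha3 fun e => ?_
    have h3 := F.b3
    rw [← hπa, e, map_one, orderOf_one] at h3
    omega
  refine ⟨zpowers a, by rw [Nat.card_zpowers, hao], ?_⟩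
  have hcent : ∀ y ∈ centralizer ((zpowers a : Subgroup G₀) : Set G₀), π y ∈ centralizer ({b} : Set _) := fun y hy =>
    mem_centralizer_singleton_iff.2 (by
      rw [← hπa, ← map_mul, ← map_mul, mem_centralizer_iff.1 hy a (mem_zpowers a)])
  let τ : ↥(centralizer ((zpowers a : Subgroup G₀) : Set G₀)) →* X b :=
    (qm b).comp ((π.comp (centralizer ((zpowers a : Subgroup G₀) : Set G₀)).subtype).codRestrict
      (centralizer ({b} : Set _)) fun y => hcent y y.2)
  have hτ : Function.Surjective τ := by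
    intro w
    obtain ⟨m, rfl⟩ := QuotientGroup.mk'_surjective (Bc b) w
    obtain ⟨y, hy⟩ := QuotientGroup.mk'_surjective (center G₀) (m : G₀ ⧸ center G₀)
    have hd : a⁻¹ * (y * a * y⁻¹) ∈ center G₀ := (hker _).1 (by
      rw [map_mul, map_mul, map_mul, map_inv, map_inv, hπa, show π y = (m : G₀ ⧸ center G₀) from hy,
        mem_centralizer_singleton_iff.1 m.2, mul_inv_cancel_right, inv_mul_cancel])
    have hd1 : (a⁻¹ * (y * a * y⁻¹)) ^ 3 = 1 := by
      have hcomm : Commute a⁻¹ (y * a * y⁻¹) := by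
        have h' : Commute a⁻¹ (a * (a⁻¹ * (y * a * y⁻¹))) := by
          refine ((Commute.refl a).inv_left.mul_right ?_)
          exact (mem_center_iff.1 hd a⁻¹)
        simpa using h'
      rw [hcomm.mul_pow, inv_pow, conj_pow, ha3]; group
    have hd0 : a⁻¹ * (y * a * y⁻¹) = 1 := by
      have h2 := hc2 _ hd
      rwa [show (3 : ℕ) = 2 + 1 from rfl, pow_succ, h2, one_mul] at hd1
    have hyc : y ∈ centralizer ((zpowers a : Subgroup G₀) : Set G₀) := by
      rw [zpowers_eq_closure, centralizer_closure]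
      exact mem_centralizer_singleton_iff.2 (conj_eq_iff_comm.1 (inv_mul_eq_one.1 hd0).symm)
    exact ⟨⟨y, hyc⟩, congrArg (qm b) (Subtype.ext hy)⟩
  have hbot : (zpowers a ⊔ center G₀).subgroupOf (centralizer ((zpowers a : Subgroup G₀) : Set G₀)) = τ.ker := by
    ext y
    rw [mem_subgroupOf, MonoidHom.mem_ker]
    show _ ↔ qm b _ = 1
    rw [mk_eq_one F.b3]
    constructor
    · intro hy
      obtain ⟨p, hp, q, hq, e⟩ := mem_sup_of_normal_right.1 hy
      obtain ⟨k, rfl⟩ := (mem_powers_iff_mem_zpowers).2 hp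
      refine ⟨k, ?_⟩
      show π (y : G₀) = b ^ k
      rw [← e, map_mul, (hker q).2 hq, mul_one]
      show π (a ^ k) = _
      rw [map_pow, hπa]
    · rintro ⟨k, hk⟩
      replace hk : π (y : G₀) = b ^ k := hk
      rw [← mul_inv_cancel_left (a ^ k) (y : G₀)]
      refine mul_mem (mem_sup_left (pow_mem (mem_zpowers a) k)) (mem_sup_right ((hker _).1 ?_))
      rw [map_mul, map_inv, map_pow, hπa, hk, inv_mul_cancel]
  have hn : ((zpowers a ⊔ center G₀).subgroupOf (centralizer ((zpowers a : Subgroup G₀) : Set G₀))).Normal := by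
    rw [hbot]; exact τ.normal_ker
  have hS := F.suzHyp hgQ hgne
  exact ⟨hn, X b, inferInstance, inferInstance,
    ⟨((QuotientGroup.quotientMulEquivOfEq hbot).trans (QuotientGroup.quotientKerEquivOfSurjective τ hτ)).symm⟩,
    hS.simple.1, hS.simple.2, hS⟩

/-- The Suzuki section, given the hypothesis of Conway type for the first Conway group. -/
theorem co0_suz_section (h : ∃ z : Cfsg.Spor.Co1, orderOf z = 2 ∧ ∃ (Q : Subgroup (Subgroup.centralizer ({z} : Set Cfsg.Spor.Co1))) (_ : Q.Normal), Cfsg.generalizedFittingSubgroup (Subgroup.centralizer ({z} : Set Cfsg.Spor.Co1)) = Q ∧ Cfsg.IsExtraspecial 2 Q ∧ Nat.card Q = 2 ^ 9 ∧ Nonempty ((Subgroup.centralizer ({z} : Set Cfsg.Spor.Co1)) ⧸ Q ≃* Cfsg.Omega (ZMod 2) (Cfsg.quadFormPlus 4 (ZMod 2))) ∧ ∃ g : Cfsg.Spor.Co1, (∃ hq : g * z * g⁻¹ ∈ Subgroup.centralizer ({z} : Set Cfsg.Spor.Co1), (⟨g * z * g⁻¹, hq⟩ : Subgroup.centralizer ({z} : Set Cfsg.Spor.Co1)) ∈ Q) ∧ g * z * g⁻¹ ≠ z)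 :
    ∃ A : Subgroup ↥Cfsg.Co0, Nat.card A = 3 ∧
      ∃ (_hn : ((A ⊔ Subgroup.center ↥Cfsg.Co0).subgroupOf (Subgroup.centralizer (A : Set ↥Cfsg.Co0))).Normal),
      ∃ (S : Type) (_ : Group S) (_ : Finite S),
        Nonempty (S ≃* ↥(Subgroup.centralizer (A : Set ↥Cfsg.Co0)) ⧸
          (A ⊔ Subgroup.center ↥Cfsg.Co0).subgroupOf (Subgroup.centralizer (A : Set ↥Cfsg.Co0))) ∧
        IsSimpleGroup S ∧ ¬ IsMulCommutative S ∧ SuzHyp S := by
  obtain ⟨z, hz, Q, hN, hF, hQ, hcard, ⟨e⟩, g, ⟨hq, hgQ⟩, hgne⟩ := h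
  obtain ⟨v, ρ, S⟩ := CoOneType.exists_setup z hz Q hF hQ hcard e
  exact suz_section CfsgLib.Spor.Leech.card_center S (g := g) ⟨_, hgQ, rfl⟩ hgne

end

end CfsgLib.Spor.SuzSection
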