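import Cfsg.Agent.Lib.Spor.CoOneType.Basic
import Cfsg.Agent.Lib.Spor.SuzType.Basic

/-!
# A space of minus type in dimension six and its perpendicular plane inside the eight-space
-/

set_option autoImplicit false
set_option synthInstance.maxSize 4096

namespace CfsgLib.Spor.SuzSection

open Matrix Cfsg.Geo CfsgLib.Perm.Trans.Quad
open CfsgLib.Spor.CoOneType (two_cases)

noncomputable section

/-- The eight-space. -/
abbrev V8 : Type := CoOneType.Vec

/-- The six-space. -/
abbrev V6 : Type := SuzType.Vec

/-- The form on the eight-space. -/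
abbrev q8 : V8 → ZMod 2 := CoOneType.qf

/-- The form on the six-space. -/
abbrev q6 : V6 → ZMod 2 := SuzType.qf

/-- The isometries of the eight-space. -/
abbrev I8 := CoOneType.Iso8

/-- The isometries of the six-space. -/
abbrev I6 := SuzType.Iso6

/-- The polar form of the eight-space. -/
abbrev p8 (u w : V8) : ZMod 2 := QuadraticMap.polar q8 u w

/-- The embedding of the six-space. -/
def emb : V6 →ₗ[ZMod 2] V8 where
  toFun x := Sum.elim ![x (.inl (.inl 0)), x (.inl (.inl 1)), x (.inr 0), x (.inr 1)]
    ![x (.inl (.inr 0)), x (.inl (.inr 1)), x (.inr 0) + x (.inr 1), x (.inr 1)]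
  map_add' a b := by
    ext i
    revert i
    simp [Sum.forall, Fin.forall_fin_succ]
    all_goals ring_nf
    all_goals trivial
  map_smul' c a := by
    ext i
    revert i
    simp [Sum.forall, Fin.forall_fin_succ]
    all_goals ring_nf
    all_goals trivial

/-- The coordinates in the six-space. -/
def kap : V8 →ₗ[ZMod 2] V6 where
  toFun v := Sum.elim (Sum.elim ![v (.inl 0), v (.inl 1)] ![v (.inr 0), v (.inr 1)])
    ![v (.inl 2) + v (.inl 3) + v (.inr 3), v (.inl 2) + v (.inr 2)]
  map_add' a b := by
    ext i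
    revert i
    simp [Sum.forall, Fin.forall_fin_succ]
    all_goals ring_nf
    all_goals trivial
  map_smul' c a := by
    ext i
    revert i
    simp [Sum.forall, Fin.forall_fin_succ]
    all_goals ring_nf
    all_goals trivial

/-- The embedding of the plane. -/
def pla : (Fin 2 → ZMod 2) →ₗ[ZMod 2] V8 where
  toFun s := Sum.elim ![0, 0, s 0, s 0 + s 1] ![0, 0, s 0, s 1]
  map_add' a b := by
    ext i
    revert i
    simp [Sum.forall, Fin.forall_fin_succ]
    all_goals ring_nf
    all_goals trivial
  map_smul' c a := by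
    ext i
    revert i
    simp [Sum.forall, Fin.forall_fin_succ]
    all_goals ring_nf
    all_goals trivial

/-- The coordinates in the plane. -/
def mu : V8 →ₗ[ZMod 2] (Fin 2 → ZMod 2) where
  toFun v := ![v (.inl 3) + v (.inr 3), v (.inl 2) + v (.inr 2) + v (.inr 3)]
  map_add' a b := by
    ext i
    revert i
    simp [Sum.forall, Fin.forall_fin_succ]
    all_goals ring_nf
    all_goals trivial
  map_smul' c a := by
    ext i
    revert i
    simp [Sum.forall, Fin.forall_fin_succ]
    all_goals ring_nf
    all_goals trivial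

/-- The rotation of the plane. -/
def rot : (Fin 2 → ZMod 2) →ₗ[ZMod 2] (Fin 2 → ZMod 2) where
  toFun s := ![s 1, s 0 + s 1]
  map_add' a b := by
    ext i
    revert i
    simp [Sum.forall, Fin.forall_fin_succ]
    all_goals ring_nf
    all_goals trivial
  map_smul' c a := by
    ext i
    revert i
    simp [Sum.forall, Fin.forall_fin_succ]
    all_goals ring_nf
    all_goals trivial

theorem split : ∀ v : V8, emb (kap v) + pla (mu v) = v := by decide +kernel

theorem kap_emb : ∀ x : V6, kap (emb x) = x := by decide +kernel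

theorem mu_emb : ∀ x : V6, mu (emb x) = 0 := by decide +kernel

theorem kap_pla : ∀ s, kap (pla s) = 0 := by decide +kernel

theorem mu_pla : ∀ s, mu (pla s) = s := by decide +kernel

theorem q8_emb : ∀ x : V6, q8 (emb x) = q6 x := by decide +kernel

theorem q8_split : ∀ v : V8, q8 v = q6 (kap v) + q8 (pla (mu v)) := by decide +kernel

theorem q8_rot : ∀ s, q8 (pla (rot s)) = q8 (pla s) := by decide +kernel

theorem rot_three : ∀ s, rot (rot (rot s)) = s := by decide +kernel

theorem rot_fix : ∀ s, rot s = s → s = 0 := by decide +kernel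

theorem plane_orbit : ∀ s, s ≠ (0 : Fin 2 → ZMod 2) → s = ![1, 0] ∨ s = rot ![1, 0] ∨ s = rot (rot ![1, 0]) := by
  decide +kernel

theorem rot_basis : ∀ s : Fin 2 → ZMod 2, s = s 0 • ![1, 0] + s 1 • rot ![1, 0] := by decide +kernel

theorem emb_injective : Function.Injective emb := fun x y h => by rw [← kap_emb x, h, kap_emb]

theorem pla_injective : Function.Injective pla := fun x y h => by rw [← mu_pla x, h, mu_pla]

theorem eq_emb {v : V8} (h : mu v = 0) : v = emb (kap v) := by
  conv_lhs => rw [← split v, h, map_zero, add_zero]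

theorem eq_pla {v : V8} (h : kap v = 0) : v = pla (mu v) := by
  conv_lhs => rw [← split v, h, map_zero, zero_add]

theorem p8_emb (x y : V6) : p8 (emb x) (emb y) = QuadraticMap.polar q6 x y := by
  simp only [p8, QuadraticMap.polar, ← map_add, q8_emb]

theorem p8_pla : ∀ (s : Fin 2 → ZMod 2) (x : V6), p8 (pla s) (emb x) = 0 := by decide +kernel

theorem p8_kap (v : V8) (x : V6) : p8 v (emb x) = QuadraticMap.polar q6 (kap v) x := by
  conv_lhs => rw [← split v]
  show QuadraticMap.polar q8 _ _ = _
  rw [CoOneType.pol_add_left]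
  show p8 _ _ + p8 _ _ = _
  rw [p8_emb, p8_pla, add_zero]

theorem v6_add_self (x : V6) : x + x = 0 := funext fun _ => CharTwo.add_self_eq_zero _

/-! ### The element of order three -/

/-- The rotation, extended trivially. -/
def turn : V8 →ₗ[ZMod 2] V8 := emb.comp kap + pla.comp (rot.comp mu)

theorem turn_apply (v : V8) : turn v = emb (kap v) + pla (rot (mu v)) := rfl

theorem mu_turn (v : V8) : mu (turn v) = rot (mu v) := by rw [turn_apply, map_add, mu_emb, mu_pla, zero_add]

theorem kap_turn (v : V8) : kap (turn v) = kap v := by rw [turn_apply, map_add, kap_emb, kap_pla, add_zero]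

theorem turn_three (v : V8) : turn (turn (turn v)) = v := by
  rw [turn_apply (turn (turn v)), kap_turn, kap_turn, mu_turn, mu_turn, rot_three, split]

theorem q8_turn (v : V8) : q8 (turn v) = q8 v := by
  rw [q8_split (turn v), kap_turn, mu_turn, q8_rot, ← q8_split v]

/-- The rotation as an isometry. -/
def bet : I8 :=
  ⟨⟨LinearMap.toMatrix' turn, LinearMap.toMatrix' turn * LinearMap.toMatrix' turn, by
      rw [← LinearMap.toMatrix'_comp, ← LinearMap.toMatrix'_comp,
        show turn.comp (turn.comp turn) = LinearMap.id from LinearMap.ext turn_three, LinearMap.toMatrix'_id],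
    by
      rw [← LinearMap.toMatrix'_comp, ← LinearMap.toMatrix'_comp,
        show (turn.comp turn).comp turn = LinearMap.id from LinearMap.ext turn_three, LinearMap.toMatrix'_id]⟩,
    mem_iso.2 fun x => by
      show q8 (LinearMap.toMatrix' turn *ᵥ x) = q8 x
      rw [LinearMap.toMatrix'_mulVec, q8_turn]⟩

theorem act_bet (v : V8) : CoOneType.act bet v = turn v := LinearMap.toMatrix'_mulVec turn v

theorem bet_three : bet ^ 3 = 1 := CoOneType.iso_ext fun v => by
  rw [pow_succ, pow_two, CoOneType.act_mul, CoOneType.act_mul, act_bet, act_bet, act_bet, turn_three,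
    CoOneType.act_one]

theorem bet_fix (v : V8) : CoOneType.act bet v = v ↔ mu v = 0 := by
  rw [act_bet]
  constructor
  · intro h
    refine rot_fix _ ?_
    rw [← mu_turn, h]
  · intro h
    rw [turn_apply, h, map_zero, map_zero, add_zero, ← eq_emb h]

theorem bet_ne : bet ≠ 1 := fun h => by
  have h1 : CoOneType.act bet (pla ![1, 0]) = pla ![1, 0] := by rw [h, CoOneType.act_one]
  rw [bet_fix, mu_pla] at h1
  exact absurd (congrFun h1 0) (by decide)

theorem mem_om_of_three {g : I8} (h : g ^ 3 = 1) : g ∈ CoOneType.Om := by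
  have h2 := Subgroup.sq_mem_of_index_two CoOneType.om_index (g ^ 2)
  rwa [← pow_mul, show 2 * 2 = 3 + 1 from rfl, pow_succ, h, one_mul] at h2

theorem bet_mem : bet ∈ CoOneType.Om := mem_om_of_three bet_three

/-! ### Isometries of the six-space extended trivially -/

/-- An isometry extended to the whole space. -/
def ext (g : I6) : V8 →ₗ[ZMod 2] V8 :=
  emb.comp ((Matrix.toLin' ((g : GL SuzType.Ix (ZMod 2)) : Matrix SuzType.Ix SuzType.Ix (ZMod 2))).comp kap) +
    pla.comp mu

theorem ext_apply (g : I6) (v : V8) : ext g v = emb (SuzType.act g (kap v)) + pla (mu v) := rfl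

theorem kap_ext (g : I6) (v : V8) : kap (ext g v) = SuzType.act g (kap v) := by
  rw [ext_apply, map_add, kap_emb, kap_pla, add_zero]

theorem mu_ext (g : I6) (v : V8) : mu (ext g v) = mu v := by rw [ext_apply, map_add, mu_emb, mu_pla, zero_add]

theorem ext_mul (g h : I6) (v : V8) : ext (g * h) v = ext g (ext h v) := by
  rw [ext_apply g (ext h v), kap_ext, mu_ext, ext_apply, SuzType.act_mul]

theorem ext_one (v : V8) : ext 1 v = v := by rw [ext_apply, SuzType.act_one, split]

theorem ext_q8 (g : I6) (v : V8) : q8 (ext g v) = q8 v := by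
  rw [q8_split (ext g v), kap_ext, mu_ext,
    show q6 (SuzType.act g (kap v)) = q6 (kap v) from SuzType.qf_act g _, ← q8_split v]

/-- The extension as a homomorphism. -/
def lift6 : I6 →* I8 :=
  MonoidHom.codRestrict
    (MonoidHom.toHomUnits
      { toFun := fun g => LinearMap.toMatrix' (ext g)
        map_one' := by
          rw [show ext 1 = LinearMap.id from LinearMap.ext ext_one, LinearMap.toMatrix'_id]
        map_mul' := fun g h => by
          rw [show ext (g * h) = (ext g).comp (ext h) from LinearMap.ext (ext_mul g h),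
            LinearMap.toMatrix'_comp] })
    _ (fun g => mem_iso.2 fun x => by
      show q8 (LinearMap.toMatrix' (ext g) *ᵥ x) = q8 x
      rw [LinearMap.toMatrix'_mulVec, ext_q8])

theorem act_lift (g : I6) (v : V8) : CoOneType.act (lift6 g) v = emb (SuzType.act g (kap v)) + pla (mu v) :=
  LinearMap.toMatrix'_mulVec (ext g) v

theorem act_lift_emb (g : I6) (x : V6) : CoOneType.act (lift6 g) (emb x) = emb (SuzType.act g x) := by
  rw [act_lift, kap_emb, mu_emb, map_zero, add_zero]

theorem act_lift_pla (g : I6) (s : Fin 2 → ZMod 2) : CoOneType.act (lift6 g) (pla s) = pla s := by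
  rw [act_lift, kap_pla, mu_pla, SuzType.act_zero, map_zero, zero_add]

theorem lift_comm (g : I6) : bet * lift6 g = lift6 g * bet := CoOneType.iso_ext fun v => by
  rw [CoOneType.act_mul, CoOneType.act_mul, act_bet, act_bet, act_lift g (turn v), kap_turn, mu_turn, turn_apply,
    act_lift g v]
  simp [turn_apply, kap_emb, kap_pla, mu_emb, mu_pla]

/-- The part of the simple subgroup on the six-space is the simple subgroup there. -/
theorem comap_lift : CoOneType.Om.comap lift6 = SuzType.Om := by
  have hle : SuzType.Om ≤ CoOneType.Om.comap lift6 := by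
    rw [← Subgroup.map_le_iff_le_comap]
    show (commutator I6).map lift6 ≤ commutator I8
    rw [_root_.commutator_def, Subgroup.map_commutator, _root_.commutator_def]
    exact Subgroup.commutator_mono le_top le_top
  have hne : CoOneType.Om.comap lift6 ≠ ⊤ := by
    intro htop
    obtain ⟨a, ha⟩ : ∃ a : V6, q6 a = 1 := by decide +kernel
    obtain ⟨r, hr, hR⟩ := exists_refl SuzType.qf_nd (v := a) (by rw [show SuzType.qf a = 1 from ha]; decide)
    have hT : CoOneType.IsReflAct (emb a) (lift6 ⟨r, hr⟩) := fun v => by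
      have hr' : SuzType.act ⟨r, hr⟩ (kap v) = kap v + QuadraticMap.polar q6 (kap v) a • a := by
        show (r : Matrix SuzType.Ix SuzType.Ix (ZMod 2)) *ᵥ kap v = _
        rw [hR, show SuzType.qf a = 1 from ha, inv_one, one_mul, sub_eq_add_neg, ← neg_smul, CharTwo.neg_eq]
      rw [act_lift, hr', map_add, map_smul, show QuadraticMap.polar CoOneType.qf v (emb a) = _ from p8_kap v a,
        add_right_comm, split]
    exact CoOneType.refl_notMem (by rw [show CoOneType.qf (emb a) = q6 a from q8_emb a, ha]) hT
      (Subgroup.mem_comap.1 (htop ▸ Subgroup.mem_top (⟨r, hr⟩ : I6)))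
  refine ((Subgroup.eq_of_le_of_card_ge hle ?_)).symm
  have h1 := SuzType.Om.card_mul_index
  have h2 := (CoOneType.Om.comap lift6).card_mul_index
  have h3 : (CoOneType.Om.comap lift6).index ≠ 1 := fun e => hne (Subgroup.index_eq_one.1 e)
  have h4 : 0 < (CoOneType.Om.comap lift6).index := Nat.pos_of_ne_zero Subgroup.index_ne_zero_of_finite
  rw [SuzType.om_index] at h1
  refine Nat.le_of_mul_le_mul_right ?_ (show 0 < 2 by norm_num)
  refine le_trans ?_ (le_of_eq h1.symm)
  refine le_trans (Nat.mul_le_mul_left _ ?_) (le_of_eq h2)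
  omega

/-! ### Isometries commuting with the rotation -/

/-- An isometry commuting with the rotation splits. -/
theorem exists_split {g : I8} (hg : g * bet = bet * g) :
    ∃ (k : I6) (i : ℕ), g = lift6 k * bet ^ i := by
  have hcomm : ∀ v, CoOneType.act g (turn v) = turn (CoOneType.act g v) := fun v => by
    rw [← act_bet, ← act_bet, ← CoOneType.act_mul, ← CoOneType.act_mul, hg]
  have hemb : ∀ x, mu (CoOneType.act g (emb x)) = 0 := fun x => by
    refine rot_fix _ ?_
    rw [← mu_turn, ← hcomm, show turn (emb x) = emb x by rw [← act_bet]; exact (bet_fix _).2 (mu_emb x)]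
  have hinj : Function.Injective fun x => kap (CoOneType.act g (emb x)) := fun a b e => by
    refine emb_injective (CoOneType.act_injective g ?_)
    rw [eq_emb (hemb a), eq_emb (hemb b)]
    exact congrArg emb e
  have hpla : ∀ s, kap (CoOneType.act g (pla s)) = 0 := by
    intro s
    by_contra hne
    obtain ⟨y, hy⟩ : ∃ y, QuadraticMap.polar q6 (kap (CoOneType.act g (pla s))) y ≠ 0 :=
      (SuzType.qf_nd.nondegenerate _ hne).2
    obtain ⟨x, hx⟩ := (Finite.injective_iff_surjective.1 hinj) y
    refine hy ?_
    rw [← p8_kap, ← hx, ← eq_emb (hemb x)]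
    exact (CoOneType.pol_act g _ _).trans (p8_pla s x)
  let f : V6 →ₗ[ZMod 2] V6 := kap.comp ((Matrix.toLin' (Fi22Eight.mat g)).comp emb)
  have hf : ∀ x, CoOneType.act g (emb x) = emb (f x) := fun x => eq_emb (hemb x)
  have hu : IsUnit (LinearMap.toMatrix' f) := by
    rw [← Matrix.mulVec_injective_iff_isUnit]
    intro a b e
    simp only [LinearMap.toMatrix'_mulVec] at e
    exact hinj e
  let k : I6 := ⟨hu.unit, mem_iso.2 fun x => by
    rw [IsUnit.unit_spec, LinearMap.toMatrix'_mulVec]
    show q6 (f x) = q6 x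
    rw [← q8_emb, ← hf, show q8 (CoOneType.act g (emb x)) = q8 (emb x) from CoOneType.qf_act g _, q8_emb]⟩
  have hk : ∀ x, SuzType.act k x = f x := fun x => by
    show (hu.unit : Matrix SuzType.Ix SuzType.Ix (ZMod 2)) *ᵥ x = _
    rw [IsUnit.unit_spec, LinearMap.toMatrix'_mulVec]
  set s₀ : Fin 2 → ZMod 2 := ![1, 0]
  have hs : mu (CoOneType.act g (pla s₀)) ≠ 0 := fun e => by
    have h0 : CoOneType.act g (pla s₀) = 0 := by rw [eq_pla (hpla s₀), e, map_zero]
    have h1 : pla s₀ = pla 0 := by
      rw [map_zero]; exact CoOneType.act_injective g (h0.trans (CoOneType.act_zero g).symm)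
    exact absurd (congrFun (pla_injective h1) 0) (by decide)
  obtain ⟨i, hi⟩ : ∃ i : ℕ, CoOneType.act g (pla s₀) = CoOneType.act (bet ^ i) (pla s₀) := by
    have hbp : ∀ s, CoOneType.act bet (pla s) = pla (rot s) := fun s => by
      rw [act_bet, turn_apply, kap_pla, mu_pla, map_zero, zero_add]
    rcases plane_orbit _ hs with e | e | e
    · exact ⟨0, by rw [pow_zero, CoOneType.act_one, eq_pla (hpla s₀), e]⟩
    · exact ⟨1, by rw [pow_one, hbp, eq_pla (hpla s₀), e]⟩
    · exact ⟨2, by rw [pow_two, CoOneType.act_mul, hbp, hbp, eq_pla (hpla s₀), e]⟩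
  have hfix : ∀ x, ∀ n : ℕ, CoOneType.act (bet ^ n) (emb x) = emb x := fun x n => by
    induction n with
    | zero => rw [pow_zero, CoOneType.act_one]
    | succ n ih => rw [pow_succ, CoOneType.act_mul, (bet_fix _).2 (mu_emb x), ih]
  have hcn : g * bet = bet * g := hg
  have hall : ∀ s, CoOneType.act g (pla s) = CoOneType.act (bet ^ i) (pla s) := by
    have h1 : CoOneType.act g (pla (rot s₀)) = CoOneType.act (bet ^ i) (pla (rot s₀)) := by
      have e : pla (rot s₀) = CoOneType.act bet (pla s₀) := by
        rw [act_bet, turn_apply, kap_pla, mu_pla, map_zero, zero_add]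
      rw [e, ← CoOneType.act_mul, hcn, CoOneType.act_mul, hi, ← CoOneType.act_mul, ← CoOneType.act_mul,
        (Commute.self_pow bet i).eq]
    intro s
    rw [rot_basis s, map_add, map_smul, map_smul, CoOneType.act_add, CoOneType.act_add]
    have hsm : ∀ (c : ZMod 2) (h : I8) (w : V8), CoOneType.act h (c • w) = c • CoOneType.act h w :=
      fun c h w => Matrix.mulVec_smul _ _ _
    rw [hsm, hsm, hsm, hsm, hi, h1]
  refine ⟨k, i, CoOneType.iso_ext fun v => ?_⟩
  have hbi : ∀ n : ℕ, ∀ s, ∃ t, CoOneType.act (bet ^ n) (pla s) = pla t := fun n s => by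
    induction n with
    | zero => exact ⟨s, by rw [pow_zero, CoOneType.act_one]⟩
    | succ n ih =>
      obtain ⟨t, ht⟩ := ih
      refine ⟨rot t, ?_⟩
      rw [pow_succ', CoOneType.act_mul, ht, act_bet, turn_apply, kap_pla, mu_pla, map_zero, zero_add]
  rw [← split v, CoOneType.act_add, CoOneType.act_add, CoOneType.act_mul, CoOneType.act_mul, hfix,
    act_lift_emb, hk, ← hf, hall]
  obtain ⟨t, ht⟩ := hbi i (mu v)
  rw [ht, act_lift_pla]

end

end CfsgLib.Spor.SuzSection
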